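import Cfsg.Agent.Lib.Cert.Mat
import Cfsg.Agent.Lib.Cert.Sch2

set_option autoImplicit false
set_option maxRecDepth 100000

namespace Cfsg.Agent.Ct.M12s.S2

open Cfsg.Agent.PC

open Cfsg.Agent.Fi Cfsg.Agent.Ct
def W_t : TL := (TL.node (TL.node (TL.node (TL.node (TL.leaf []) (TL.leaf [nat_lit 0, nat_lit 0, nat_lit 5, nat_lit 5, nat_lit 5, nat_lit 5, nat_lit 5, nat_lit 5, nat_lit 5, nat_lit 1, nat_lit 1, nat_lit 1, nat_lit 3, nat_lit 3, nat_lit 3])) (TL.node (TL.leaf [nat_lit 0, nat_lit 0, nat_lit 5, nat_lit 5, nat_lit 5, nat_lit 5, nat_lit 5, nat_lit 5, nat_lit 5, nat_lit 2, nat_lit 2, nat_lit 2, nat_lit 0, nat_lit 3, nat_lit 1, nat_lit 1]) (TL.leaf [nat_lit 0, nat_lit 3, nat_lit 1, nat_lit 2, nat_lit 2, nat_lit 0, nat_lit 5, nat_lit 5, nat_lit 5, nat_lit 5, nat_lit 5, nat_lit 5, nat_lit 5, nat_lit 4, nat_lit 4, nat_lit 4, nat_lit 4, nat_lit 4, nat_lit 4, nat_lit 4, nat_lit 4, nat_lit 4, nat_lit 4, nat_lit 2, nat_lit 5]))) (TL.node (TL.node (TL.leaf [nat_lit 1, nat_lit 3, nat_lit 1, nat_lit 1, nat_lit 1, nat_lit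 5, nat_lit 5, nat_lit 5, nat_lit 5, nat_lit 5, nat_lit 5, nat_lit 5, nat_lit 4, nat_lit 4, nat_lit 4, nat_lit 4, nat_lit 4, nat_lit 4, nat_lit 4, nat_lit 4, nat_lit 4, nat_lit 4, nat_lit 0, nat_lit 3, nat_lit 1]) (TL.leaf [nat_lit 4, nat_lit 5, nat_lit 5, nat_lit 5, nat_lit 5, nat_lit 5, nat_lit 5, nat_lit 5, nat_lit 3, nat_lit 0, nat_lit 4, nat_lit 2, nat_lit 2, nat_lit 2, nat_lit 0, nat_lit 5, nat_lit 4, nat_lit 2])) (TL.node (TL.leaf [nat_lit 0, nat_lit 3, nat_lit 1, nat_lit 2, nat_lit 4, nat_lit 0, nat_lit 4]) (TL.leaf [nat_lit 1, nat_lit 3, nat_lit 3, nat_lit 3, nat_lit 3, nat_lit 3, nat_lit 3, nat_lit 0, nat_lit 0, nat_lit 0, nat_lit 0, nat_lit 0, nat_lit 0, nat_lit 2])))) (TL.node (TL.node (TL.node (TL.leaf [nat_lit 4, nat_lit 5, nat_lit 5, nat_lit 5, nat_lit 5, nat_lit 5, nat_lit 5, nat_lit 5, nat_lit 3, nat_lit 1, nat_lit 2, nat_lit 1, nat_lit 1, nat_lit 1, nat_lit 4, nat_lit 4, nat_lit 4, nat_lit 4, nat_lit 4, nat_lit 4, nat_lit 4, nat_lit 4, nat_lit 4, nat_lit 4, nat_lit 3, nat_lit 2, nat_lit 0,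 nat_lit 0, nat_lit 0, nat_lit 5]) (TL.leaf [nat_lit 2, nat_lit 1, nat_lit 3, nat_lit 3, nat_lit 3, nat_lit 0, nat_lit 0, nat_lit 0, nat_lit 5, nat_lit 5, nat_lit 5, nat_lit 5, nat_lit 5, nat_lit 5, nat_lit 5, nat_lit 2, nat_lit 2, nat_lit 2, nat_lit 1, nat_lit 1, nat_lit 1, nat_lit 4, nat_lit 1, nat_lit 0])) (TL.node (TL.leaf [nat_lit 1, nat_lit 5, nat_lit 4, nat_lit 4, nat_lit 4, nat_lit 4, nat_lit 4, nat_lit 4, nat_lit 4, nat_lit 4, nat_lit 4, nat_lit 4, nat_lit 5, nat_lit 5, nat_lit 5, nat_lit 5, nat_lit 5, nat_lit 5, nat_lit 5, nat_lit 2, nat_lit 1]) (TL.leaf [nat_lit 4, nat_lit 5, nat_lit 5, nat_lit 5, nat_lit 5, nat_lit 5, nat_lit 5, nat_lit 5, nat_lit 1, nat_lit 1, nat_lit 1, nat_lit 4, nat_lit 1, nat_lit 1, nat_lit 1, nat_lit 4, nat_lit 4, nat_lit 5, nat_lit 1, nat_lit 1, nat_lit 1, nat_lit 5]))) (TL.node (TL.node (TL.leaf [nat_lit 1, nat_lit 1, nat_lit 1, nat_lit 4, nat_lit 4, nat_lit 4, nat_lit 4, nat_lit 4, nat_lit 4, nat_lit 4, nat_lit 4, nat_lit 4, nat_lit 4, nat_lit 0, nat_lit 0, nat_lit 0, nat_lit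 4, nat_lit 4, nat_lit 4, nat_lit 4, nat_lit 4, nat_lit 4, nat_lit 4, nat_lit 4, nat_lit 4, nat_lit 4, nat_lit 0, nat_lit 0, nat_lit 0, nat_lit 1, nat_lit 1, nat_lit 1, nat_lit 4]) (TL.leaf [nat_lit 3, nat_lit 3, nat_lit 3, nat_lit 1, nat_lit 1, nat_lit 1, nat_lit 5, nat_lit 5, nat_lit 5, nat_lit 5, nat_lit 5, nat_lit 5, nat_lit 5, nat_lit 2, nat_lit 2, nat_lit 2, nat_lit 0, nat_lit 4, nat_lit 4, nat_lit 4, nat_lit 4, nat_lit 4, nat_lit 4, nat_lit 4, nat_lit 4, nat_lit 4, nat_lit 4, nat_lit 5])) (TL.node (TL.leaf [nat_lit 1, nat_lit 5, nat_lit 5, nat_lit 5, nat_lit 5, nat_lit 5, nat_lit 5, nat_lit 5, nat_lit 4, nat_lit 4, nat_lit 4, nat_lit 4, nat_lit 4, nat_lit 4, nat_lit 4, nat_lit 4, nat_lit 4, nat_lit 4, nat_lit 2, nat_lit 5, nat_lit 5, nat_lit 5, nat_lit 5, nat_lit 5, nat_lit 5, nat_lit 5, nat_lit 0, nat_lit 1, nat_lit 5]) (TL.leaf [nat_lit 0, nat_lit 3, nat_lit 1, nat_lit 1, nat_lit 1, nat_lit 2, nat_lit 2, nat_lit 2, nat_lit 1, nat_lit 3, nat_lit 0, nat_lit 4, nat_lit 2, nat_lit 2, nat_lit 2])))))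
noncomputable def W (i : ℕ) : List ℕ := TL.get W_t i
def B : List ℕ := [nat_lit 17, nat_lit 1, nat_lit 16, nat_lit 14, nat_lit 12, nat_lit 0, nat_lit 23]
noncomputable def q (j : ℕ) : G12 := ev (sub G12 (Spor.fam Spor.c12)) (W j)
noncomputable def Q (j : ℕ) : ℕ → ℕ := trF (Spor.TP Spor.c12) (W j)
theorem md : Md Spor.gp 24 B q Q 16 := (md12).words' (by decide +kernel)
def I (i : ℕ) : ℕ := Nat.land (Nat.shiftRight (nat_lit 0x1c074000781f0800000000000000000000000000000000000000000000000000000000000000000000000000000000000000000000000000000000000000000000000000000000000000000000000000000000000000000000000000000000000000000000000000000000000000000000000000000000000000000000000000000000000000000000000000000000000000000000000000000000000001700000060000641a06c000000000000000000000000000000000000000000000000000000000000000000000000000000000000000000000000000000000000000000000000000000000000000000001600015000000000000000000000000000000000000000000000000000000000000000000000000000000000000000000000000000000000000000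000000000000000000000000000000000000000000160001403c00000000000000000000000000000000000000000000000000000000000000000000000000000000000000000000000000000000000000000000000000000000000000000000000000000016000130380a000000000000000000000000000000000000000000000000000000000000000000000000000000000000000000000000000000000000000000000000000000000000000000000000000016000120340901800000000000000000000000000000000000000000000000000000000000000000000000000000000000000000000000000000000000000000000000000000000000000000000000001600011030080140300000000000000000000000000000000000000000000000000000000000000000000000000000000000000000000000000000000000000000000000000000000000000000000000160001002c0701002004000000000000000000000000000000000000000000000000000000000000000000000000000000000000000000000000000000000000000000000000000000000000000000001600000000000000000000) (Nat.mul (nat_lit 10) i)) (nat_lit 1023)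
def Ru_t1 : TN := (TN.node (TN.node (TN.node (TN.node (TN.leaf (nat_lit 0)) (TN.leaf (nat_lit 0x90430000000002410c2))) (TN.leaf (nat_lit 0x46000000000046082))) (TN.node (TN.leaf (nat_lit 0x84000000000084082)) (TN.leaf (nat_lit 0x70420c41460000000001c51c2)))) (TN.node (TN.node (TN.leaf (nat_lit 0x43000000000043082)) (TN.leaf (nat_lit 0x43146000000000146102))) (TN.node (TN.leaf (nat_lit 0x10850000000000850c2)) (TN.leaf (nat_lit 0x90860000000002460c2)))))
def Ru_t2 : TN := (TN.node (TN.node (TN.node (TN.leaf (nat_lit 0x42000000000042082)) (TN.leaf (nat_lit 0xc60000000000c6082))) (TN.node (TN.leaf (nat_lit 0x2000000000104042)) (TN.leaf (nat_lit 0x1c11060000000001c2102)))) (TN.node (TN.node (TN.leaf (nat_lit 798722)) (TN.leaf (nat_lit 0xc4146000000000008101))) (TN.node (TN.leaf (nat_lit 0x31050000000001050c2)) (TN.leaf (nat_lit 0x241000000000243082)))))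
def Ru_t3 : TN := (TN.node Ru_t1 Ru_t2)
def Ru_t4 : TN := (TN.node (TN.node (TN.node (TN.node (TN.leaf (nat_lit 266242)) (TN.leaf (nat_lit 0x10860000000000860c2))) (TN.node (TN.leaf (nat_lit 0x10c40000000000c40c2)) (TN.leaf (nat_lit 0x1c20c50000000001c3102)))) (TN.node (TN.node (TN.leaf (nat_lit 0x83000000000083082)) (TN.leaf (nat_lit 0x186002))) (TN.node (TN.leaf (nat_lit 0xc50000000000c5082)) (TN.leaf (nat_lit 0x2410c5000000000245102))))) (TN.node (TN.node (TN.node (TN.leaf (nat_lit 0x1000000000082042)) (TN.leaf (nat_lit 0x21060000000001060c2))) (TN.node (TN.leaf (nat_lit 0x45000000000045082)) (TN.leaf (nat_lit 0x1c10000000001c1082)))) (TN.node (TN.node (TN.leaf (nat_lit 0x44000000000044082)) (TN.leaf (nat_lit 0x70c41460000000001c8142))) (TN.node (TN.leaf (nat_lit 0x145002)) (TN.leaf (nat_lit 0x91460000000002420c2))))))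
def Ru_t : TN := (TN.node Ru_t3 Ru_t4)
noncomputable def Ru (i : ℕ) : ℕ := TN.get Ru_t i
def D_t1 : TN := (TN.node (TN.node (TN.node (TN.node (TN.leaf (nat_lit 0x200000000000000000000000000000001)) (TN.leaf (nat_lit 0x30000000000000003000000030000000000000000000000010000000000000000000000010000000000000000000000030000000000000000000000030000000000000000000000000000000300000021))) (TN.leaf (nat_lit 0x20000000100000000000000000000000000000011))) (TN.node (TN.leaf (nat_lit 0x10000000000000009)) (TN.leaf (nat_lit 0x3000000000000000100000000000000000000000000000000000000000000000000000000000000000000000000000000000000000000000000000000000000010000000000000019)))) (TN.node (TN.node (TN.node (TN.leaf (nat_lit 0x200000000000000000000000000000000000000000000000000000000000000000000000000000000000000000000000000000005)) (TN.leaf (nat_lit 0x3000000000000000000000000000000020000000200000000000000000000000000000000000000000000000000000000000000000000000000000000000000000000000000000000000000000000000000000000000000000000000000000000000000000000000000000025)))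 (TN.leaf (nat_lit 0x2000000000000000100000000000000010000000000000000000000000000000100000015))) (TN.node (TN.leaf (nat_lit 0x2000000010000000000000000000000000000000000000000000000000000000000000000000000000000000000000000000000000000000000000000000000010000000d)) (TN.leaf (nat_lit 0x2000000000000000000000000000000000000000000000000000000030000000000000003000000000000000000000000000000000000000300000000000000030000000000000000000000030000001d)))))
def D_t2 : TN := (TN.node (TN.node (TN.node (TN.node (TN.leaf (nat_lit 0x200000000000000000000000000000000000000000000000000000000000000000000000000000000000000000000000000000000000000000000000000000003)) (TN.leaf (nat_lit 0x30000000000000003000000000000000000000000000000000000000000000000000000000000000000000000000000000000000000000001000000000000000100000000000000000000000000000003000000000000000000000000000000000000000000000000000000020000000300000000000000000000000300000023))) (TN.leaf (nat_lit 0x200000000000000000000000000000000000000000000000000000000000000000000000000000000000000010000000000000000000000000000000000000000000000000000000000000000000000000000000000000000000000000000000000000001000000010000000100000013)))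 (TN.node (TN.leaf (nat_lit 0x20000000000000000000000000000000000000000000000000000000b)) (TN.leaf (nat_lit 0x3000000020000000000000000000000000000000000000000000000000000000000000000000000000000000100000001000000000000000000000000000000000000000100000000000000010000000000000001000000000000000000000000000000000000000000000000000000000000000300000000000000000000001b)))) (TN.node (TN.node (TN.leaf (nat_lit 0x2000000000000000000000000000000000000000000000000000000000000000000000000000000000000000000000000000000000000000000000000000000000000000000000000000000000000000000000000000000000000000000000000000000000000000000000007)) (TN.leaf (nat_lit 0x20000000000000000000000000000000000000000000000000000000000000000000000000000000000000000000000000000000000000000000000000000000100000000000000010000000000000000000000000000000000000001000000000000000100000000000000000000000100000017))) (TN.node (TN.leaf (nat_lit 0x2000000000000000000000000000000000000000000000000000000000000000000000000000000000000000000000000000000000000000000000000000000000000000000000000000000000000000000000000000000000000000000000000000000000000000100000000000000010000000000000000000000000000000f))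 (TN.leaf (nat_lit 0x2000000000000000100000000000000000000000300000000000000000000000300000002000000030000000000000000000000000000001f)))))
def D_t3 : TN := (TN.node D_t1 D_t2)
def D_t4 : TN := (TN.node (TN.node (TN.node (TN.node (TN.leaf (nat_lit 0x20000000000000000000000000000000000000000000000000000000000000000000000000000000000000002)) (TN.leaf (nat_lit 0x2000000000000000000000001000000010000000100000001000000010000000100000000000000010000000000000000000000010000000100000002000000000000000200000002000000030000000000000002000000000000000000000022))) (TN.leaf (nat_lit 0x20000000100000000000000000000000000000000000000000000000000000012))) (TN.node (TN.leaf (nat_lit 0x1000000000000000000000000000000000000000000000000000000000000000a)) (TN.leaf (nat_lit 0x30000000000000000000000000000000000000003000000000000000000000000000000000000000000000003000000000000000000000000000000000000001a)))) (TN.node (TN.node (TN.node (TN.leaf (nat_lit 0x2000000000000000000000000000000000000000000000000000000000000000000000000000000000000000000000000000000000000000000000000000000000000000000000006))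 (TN.leaf (nat_lit 0x200000001000000000000000000000000000000000000000000000003000000000000000000000000))) (TN.leaf (nat_lit 0x20000000000000001000000000000000100000000000000000000000000000000000000000000000000000000000000000000000000000001000000000000000100000000000000000000000100000016))) (TN.node (TN.leaf (nat_lit 0x2000000010000000000000000000000000000000000000000000000000000000100000000000000000000000000000000000000000000000e)) (TN.leaf (nat_lit 0x300000002000000000000000000000000000000000000000100000000000000010000000000000000000000010000000000000000000000000000000000000000000000010000000000000001000000010000000000000000000000000000000000000000000000010000001e)))))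
def D_t5 : TN := (TN.node (TN.node (TN.node (TN.node (TN.leaf (nat_lit 0x20000000000000000000000000000000000000004)) (TN.leaf (nat_lit 0x3000000000000000000000000000000000000000000000000000000010000000000000000000000010000000000000000000000030000000200000001000000000000000000000003000000010000000100000000000000010000000100000000000000010000000100000024))) (TN.leaf (nat_lit 0x2000000000000000000000000000000000000000300000000000000000000000300000014))) (TN.node (TN.leaf (nat_lit 0x200000001000000000000000000000000000000000000000000000000000000000000000000000000000000010000000c)) (TN.leaf (nat_lit 0x20000000000000001000000000000000000000000000000000000000000000000000000000000000000000003000000000000000000000000000000000000000300000003000000000000001c)))) (TN.node (TN.node (TN.leaf (nat_lit 0x2000000000000000000000000000000000000000000000000000000000000000000000000000000000000000000000000000000000000000000000000000000000000000000000000000000000000000000000000000000000000000000000003000000000000000000000000000000000000000100000008))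 (TN.leaf (nat_lit 0x200000000000000000000000000000000000000000000000000000000000000000000000000000001000000000000000100000001000000000000000000000000000000000000000000000000000000010000000100000001000000010000000100000018))) (TN.node (TN.leaf (nat_lit 0x200000000000000010000000000000000000000000000000000000000000000000000000000000000000000000000000000000000000000000000000000000001000000000000000100000010)) (TN.leaf (nat_lit 0x30000000000000000000000000000000000000000000000000000000000000000000000000000000000000000000000030000000000000003000000000000000300000000000000000000000000000003000000000000000000000000000000000000000000000003000000000000000300000000000000000000000300000020)))))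
def D_t6 : TN := (TN.node D_t4 D_t5)
def D_t : TN := (TN.node D_t3 D_t6)
noncomputable def D (i : ℕ) : ℕ := TN.get D_t i
def La_t1 : TN := (TN.node (TN.node (TN.node (TN.node (TN.leaf (nat_lit 0x200000200000002000000000000000002000000000300030000000000000300000001000000)) (TN.leaf (nat_lit 0x200000000000000000000000002000000000100030000030000000100000003000000))) (TN.leaf (nat_lit 0x300000000000000000000000001000000))) (TN.node (TN.node (TN.leaf (nat_lit 0x30000000000000000)) (TN.leaf (nat_lit 0x200000200000002000000000000000002000000000302030003000000000300000001000000))) (TN.leaf (nat_lit 0x30000000000000002000000000000000000)))) (TN.node (TN.node (TN.node (TN.leaf (nat_lit 0)) (TN.leaf (nat_lit 0))) (TN.leaf (nat_lit 0))) (TN.node (TN.node (TN.leaf (nat_lit 0)) (TN.leaf (nat_lit 0))) (TN.leaf (nat_lit 0)))))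
def La_t2 : TN := (TN.node (TN.node (TN.node (TN.node (TN.leaf (nat_lit 0)) (TN.leaf (nat_lit 0))) (TN.leaf (nat_lit 0))) (TN.node (TN.node (TN.leaf (nat_lit 0)) (TN.leaf (nat_lit 0))) (TN.leaf (nat_lit 0)))) (TN.node (TN.node (TN.node (TN.leaf (nat_lit 0)) (TN.leaf (nat_lit 0))) (TN.leaf (nat_lit 0))) (TN.node (TN.node (TN.leaf (nat_lit 0)) (TN.leaf (nat_lit 0))) (TN.leaf (nat_lit 0)))))
def La_t3 : TN := (TN.node La_t1 La_t2)
def La_t4 : TN := (TN.node (TN.node (TN.node (TN.node (TN.leaf (nat_lit 0)) (TN.leaf (nat_lit 0x300000200000003000000000000030002030100010200030100000002010300000002000000))) (TN.leaf (nat_lit 0))) (TN.node (TN.node (TN.leaf (nat_lit 0)) (TN.leaf (nat_lit 0x20000030000020000020300020203020300020301030202000003000200000001000000))) (TN.leaf (nat_lit 0)))) (TN.node (TN.node (TN.node (TN.leaf (nat_lit 0)) (TN.leaf (nat_lit 0))) (TN.leaf (nat_lit 0))) (TN.node (TN.node (TN.leaf (nat_lit 0)) (TN.leaf (nat_lit 0))) (TN.leaf (nat_lit 0)))))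
def La_t5 : TN := (TN.node (TN.node (TN.node (TN.node (TN.leaf (nat_lit 0)) (TN.leaf (nat_lit 0))) (TN.leaf (nat_lit 0))) (TN.node (TN.node (TN.leaf (nat_lit 0)) (TN.leaf (nat_lit 0))) (TN.leaf (nat_lit 0)))) (TN.node (TN.node (TN.node (TN.leaf (nat_lit 0)) (TN.leaf (nat_lit 0))) (TN.leaf (nat_lit 0))) (TN.node (TN.node (TN.leaf (nat_lit 0)) (TN.leaf (nat_lit 0))) (TN.leaf (nat_lit 0)))))
def La_t6 : TN := (TN.node La_t4 La_t5)
def La_t7 : TN := (TN.node La_t3 La_t6)
def La_t8 : TN := (TN.node (TN.node (TN.node (TN.node (TN.leaf (nat_lit 0)) (TN.leaf (nat_lit 0x200000000020202000000000000000200020000020102010102000002000000000003000000))) (TN.leaf (nat_lit 0x200000000020202000000000000000200020000020302030202000002000000000001000000))) (TN.node (TN.node (TN.leaf (nat_lit 0)) (TN.leaf (nat_lit 0x200000000000300000201030100010300010200010002000000000001000000))) (TN.leaf (nat_lit 0x300000000000000000000000000000000000000000000000000000000000000000000000000)))) (TN.node (TN.node (TN.node (TN.leaf (nat_lit 0))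 (TN.leaf (nat_lit 0))) (TN.leaf (nat_lit 0))) (TN.node (TN.node (TN.leaf (nat_lit 0)) (TN.leaf (nat_lit 0))) (TN.leaf (nat_lit 0)))))
def La_t9 : TN := (TN.node (TN.node (TN.node (TN.node (TN.leaf (nat_lit 0)) (TN.leaf (nat_lit 0))) (TN.leaf (nat_lit 0))) (TN.node (TN.node (TN.leaf (nat_lit 0)) (TN.leaf (nat_lit 0))) (TN.leaf (nat_lit 0)))) (TN.node (TN.node (TN.node (TN.leaf (nat_lit 0)) (TN.leaf (nat_lit 0))) (TN.leaf (nat_lit 0))) (TN.node (TN.node (TN.leaf (nat_lit 0)) (TN.leaf (nat_lit 0))) (TN.leaf (nat_lit 0)))))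
def La_t10 : TN := (TN.node La_t8 La_t9)
def La_t11 : TN := (TN.node (TN.node (TN.node (TN.node (TN.leaf (nat_lit 0)) (TN.leaf (nat_lit 0))) (TN.leaf (nat_lit 0))) (TN.node (TN.node (TN.leaf (nat_lit 0)) (TN.leaf (nat_lit 0))) (TN.leaf (nat_lit 0)))) (TN.node (TN.node (TN.node (TN.leaf (nat_lit 0)) (TN.leaf (nat_lit 0))) (TN.leaf (nat_lit 0))) (TN.node (TN.node (TN.leaf (nat_lit 0)) (TN.leaf (nat_lit 0))) (TN.leaf (nat_lit 0)))))
def La_t12 : TN := (TN.node (TN.node (TN.node (TN.node (TN.leaf (nat_lit 0)) (TN.leaf (nat_lit 0))) (TN.leaf (nat_lit 0))) (TN.node (TN.node (TN.leaf (nat_lit 0)) (TN.leaf (nat_lit 0))) (TN.leaf (nat_lit 0)))) (TN.node (TN.node (TN.node (TN.leaf (nat_lit 0)) (TN.leaf (nat_lit 0))) (TN.leaf (nat_lit 0))) (TN.node (TN.node (TN.leaf (nat_lit 0)) (TN.leaf (nat_lit 0))) (TN.leaf (nat_lit 0)))))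
def La_t13 : TN := (TN.node La_t11 La_t12)
def La_t14 : TN := (TN.node La_t10 La_t13)
def La_t15 : TN := (TN.node La_t7 La_t14)
def La_t16 : TN := (TN.node (TN.node (TN.node (TN.node (TN.leaf (nat_lit 0)) (TN.leaf (nat_lit 0x100000000020201000000000000000200000000000002010202000002000200000000000000))) (TN.leaf (nat_lit 0x200000002000000000000000002030000010100010000000002000100000003000000))) (TN.node (TN.node (TN.leaf (nat_lit 0)) (TN.leaf (nat_lit 0x200020200020200020000020200020002000000000303030002020002000300000001000000))) (TN.leaf (nat_lit 0x3000000000000000000)))) (TN.node (TN.node (TN.node (TN.leaf (nat_lit 0)) (TN.leaf (nat_lit 0))) (TN.leaf (nat_lit 0))) (TN.node (TN.node (TN.leaf (nat_lit 0)) (TN.leaf (nat_lit 0))) (TN.leaf (nat_lit 0)))))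
def La_t17 : TN := (TN.node (TN.node (TN.node (TN.node (TN.leaf (nat_lit 0)) (TN.leaf (nat_lit 0))) (TN.leaf (nat_lit 0))) (TN.node (TN.node (TN.leaf (nat_lit 0)) (TN.leaf (nat_lit 0))) (TN.leaf (nat_lit 0)))) (TN.node (TN.node (TN.node (TN.leaf (nat_lit 0)) (TN.leaf (nat_lit 0))) (TN.leaf (nat_lit 0))) (TN.node (TN.node (TN.leaf (nat_lit 0)) (TN.leaf (nat_lit 0))) (TN.leaf (nat_lit 0)))))
def La_t18 : TN := (TN.node La_t16 La_t17)
def La_t19 : TN := (TN.node (TN.node (TN.node (TN.node (TN.leaf (nat_lit 0)) (TN.leaf (nat_lit 0))) (TN.leaf (nat_lit 0))) (TN.node (TN.node (TN.leaf (nat_lit 0)) (TN.leaf (nat_lit 0x100000000030300010001020000020302000003000000030000000001000000))) (TN.leaf (nat_lit 0)))) (TN.node (TN.node (TN.node (TN.leaf (nat_lit 0)) (TN.leaf (nat_lit 0))) (TN.leaf (nat_lit 0))) (TN.node (TN.node (TN.leaf (nat_lit 0)) (TN.leaf (nat_lit 0))) (TN.leaf (nat_lit 0)))))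
def La_t20 : TN := (TN.node (TN.node (TN.node (TN.node (TN.leaf (nat_lit 0)) (TN.leaf (nat_lit 0))) (TN.leaf (nat_lit 0))) (TN.node (TN.node (TN.leaf (nat_lit 0)) (TN.leaf (nat_lit 0))) (TN.leaf (nat_lit 0)))) (TN.node (TN.node (TN.node (TN.leaf (nat_lit 0)) (TN.leaf (nat_lit 0))) (TN.leaf (nat_lit 0))) (TN.node (TN.node (TN.leaf (nat_lit 0)) (TN.leaf (nat_lit 0))) (TN.leaf (nat_lit 0)))))
def La_t21 : TN := (TN.node La_t19 La_t20)
def La_t22 : TN := (TN.node La_t18 La_t21)
def La_t23 : TN := (TN.node (TN.node (TN.node (TN.node (TN.leaf (nat_lit 0)) (TN.leaf (nat_lit 0))) (TN.leaf (nat_lit 0))) (TN.node (TN.node (TN.leaf (nat_lit 0)) (TN.leaf (nat_lit 0x200000003030300000000010100030003000000020300020002020003010000000001000000))) (TN.leaf (nat_lit 0)))) (TN.node (TN.node (TN.node (TN.leaf (nat_lit 0)) (TN.leaf (nat_lit 0))) (TN.leaf (nat_lit 0))) (TN.node (TN.node (TN.leaf (nat_lit 0)) (TN.leaf (nat_lit 0))) (TN.leaf (nat_lit 0)))))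
def La_t24 : TN := (TN.node (TN.node (TN.node (TN.node (TN.leaf (nat_lit 0)) (TN.leaf (nat_lit 0))) (TN.leaf (nat_lit 0))) (TN.node (TN.node (TN.leaf (nat_lit 0)) (TN.leaf (nat_lit 0))) (TN.leaf (nat_lit 0)))) (TN.node (TN.node (TN.node (TN.leaf (nat_lit 0)) (TN.leaf (nat_lit 0))) (TN.leaf (nat_lit 0))) (TN.node (TN.node (TN.leaf (nat_lit 0)) (TN.leaf (nat_lit 0))) (TN.leaf (nat_lit 0)))))
def La_t25 : TN := (TN.node La_t23 La_t24)
def La_t26 : TN := (TN.node (TN.node (TN.node (TN.node (TN.leaf (nat_lit 0)) (TN.leaf (nat_lit 0))) (TN.leaf (nat_lit 0))) (TN.node (TN.node (TN.leaf (nat_lit 0)) (TN.leaf (nat_lit 0))) (TN.leaf (nat_lit 0)))) (TN.node (TN.node (TN.node (TN.leaf (nat_lit 0)) (TN.leaf (nat_lit 0))) (TN.leaf (nat_lit 0))) (TN.node (TN.node (TN.leaf (nat_lit 0)) (TN.leaf (nat_lit 0))) (TN.leaf (nat_lit 0)))))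
def La_t27 : TN := (TN.node (TN.node (TN.node (TN.node (TN.leaf (nat_lit 0)) (TN.leaf (nat_lit 0))) (TN.leaf (nat_lit 0))) (TN.node (TN.node (TN.leaf (nat_lit 0)) (TN.leaf (nat_lit 0))) (TN.leaf (nat_lit 0)))) (TN.node (TN.node (TN.node (TN.leaf (nat_lit 0)) (TN.leaf (nat_lit 0))) (TN.leaf (nat_lit 0))) (TN.node (TN.node (TN.leaf (nat_lit 0)) (TN.leaf (nat_lit 0))) (TN.leaf (nat_lit 0)))))
def La_t28 : TN := (TN.node La_t26 La_t27)
def La_t29 : TN := (TN.node La_t25 La_t28)
def La_t30 : TN := (TN.node La_t22 La_t29)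
def La_t : TN := (TN.node La_t15 La_t30)
noncomputable def La (i : ℕ) : ℕ := TN.get La_t i
def Le_t : TN := (TN.leaf (nat_lit 0x2000000000300000000030100010302000003030002000200000001000000))
noncomputable def Le (i : ℕ) : ℕ := TN.get Le_t i
def C_t1 : TN := (TN.node (TN.node (TN.node (TN.node (TN.leaf (nat_lit 0)) (TN.leaf (nat_lit 0))) (TN.node (TN.leaf (nat_lit 0)) (TN.leaf (nat_lit 0)))) (TN.node (TN.node (TN.leaf (nat_lit 0)) (TN.leaf (nat_lit 0))) (TN.node (TN.leaf (nat_lit 0)) (TN.leaf (nat_lit 0))))) (TN.node (TN.node (TN.node (TN.leaf (nat_lit 0x300000000000000000000000000000000000000000000000300000003000000000000000000000000000000000000000000000000000000000000000000000000000000030000000000000000000000000000000300000000000000000000000000000000000000000000000000000003000000000000000000000000)) (TN.leaf (nat_lit 0))) (TN.node (TN.leaf (nat_lit 0)) (TN.leaf (nat_lit 0)))) (TN.node (TN.node (TN.leaf (nat_lit 0)) (TN.leaf (nat_lit 0))) (TN.node (TN.leaf (nat_lit 0)) (TN.leaf (nat_lit 0))))))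
def C_t2 : TN := (TN.node (TN.node (TN.node (TN.node (TN.leaf (nat_lit 0x200000000000000000000000000000000000000000000000200000002000000000000000000000000000000000000000000000000000000000000000000000000000000020000000000000000000000000000000300000000000000000000000000000000000000000000000000000002000000000000000000000000)) (TN.leaf (nat_lit 0))) (TN.node (TN.leaf (nat_lit 0)) (TN.leaf (nat_lit 0)))) (TN.node (TN.node (TN.leaf (nat_lit 0)) (TN.leaf (nat_lit 0))) (TN.node (TN.leaf (nat_lit 0)) (TN.leaf (nat_lit 0))))) (TN.node (TN.node (TN.node (TN.leaf (nat_lit 0x300000000000000000000000000000000000000000000000300000000000000000000000000000000000000000000000000000000000000000000000000000000000000000000000000000000000000000000000000000000000000000000000000000000000000000000000000000000000000000000000000000000)) (TN.leaf (nat_lit 0))) (TN.node (TN.leaf (nat_lit 0)) (TN.leaf (nat_lit 0)))) (TN.node (TN.node (TN.leaf (nat_lit 0)) (TN.leaf (nat_lit 0))) (TN.node (TN.leaf (nat_lit 0)) (TN.leaf (nat_lit 0))))))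
def C_t3 : TN := (TN.node C_t1 C_t2)
def C_t4 : TN := (TN.node (TN.node (TN.node (TN.node (TN.leaf (nat_lit 0x200000000000000000000000000000000000000000000000000000001000000000000000000000000)) (TN.leaf (nat_lit 0))) (TN.node (TN.leaf (nat_lit 0)) (TN.leaf (nat_lit 0)))) (TN.node (TN.node (TN.leaf (nat_lit 0)) (TN.leaf (nat_lit 0))) (TN.node (TN.leaf (nat_lit 0)) (TN.leaf (nat_lit 0))))) (TN.node (TN.node (TN.node (TN.leaf (nat_lit 0x300000000000000000000000000000000000000000000000000000000000000000000000000000000000000000000000000000000000000000000000300000000000000000000000000000000000000000000000000000000000000000000000000000000)) (TN.leaf (nat_lit 0))) (TN.node (TN.leaf (nat_lit 0)) (TN.leaf (nat_lit 0)))) (TN.node (TN.node (TN.leaf (nat_lit 0)) (TN.leaf (nat_lit 0))) (TN.node (TN.leaf (nat_lit 0)) (TN.leaf (nat_lit 0))))))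
def C_t5 : TN := (TN.node (TN.node (TN.node (TN.node (TN.leaf (nat_lit 0x10000000000000000000000000000000000000000000000000000000000000000000000000000000000000000000000000000000000000000)) (TN.leaf (nat_lit 0))) (TN.node (TN.leaf (nat_lit 0)) (TN.leaf (nat_lit 0)))) (TN.node (TN.node (TN.leaf (nat_lit 0)) (TN.leaf (nat_lit 0))) (TN.node (TN.leaf (nat_lit 0)) (TN.leaf (nat_lit 0))))) (TN.node (TN.node (TN.node (TN.leaf (nat_lit 0)) (TN.leaf (nat_lit 0))) (TN.node (TN.leaf (nat_lit 0)) (TN.leaf (nat_lit 0)))) (TN.node (TN.node (TN.leaf (nat_lit 0)) (TN.leaf (nat_lit 0))) (TN.node (TN.leaf (nat_lit 0)) (TN.leaf (nat_lit 0))))))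
def C_t6 : TN := (TN.node C_t4 C_t5)
def C_t : TN := (TN.node C_t3 C_t6)
noncomputable def C (i : ℕ) : ℕ := TN.get C_t i
def e (i : ℕ) : ℕ := Nat.land (Nat.shiftRight (nat_lit 2) (Nat.mul (nat_lit 2) i)) (nat_lit 3)
def U_t : TL := (TL.node (TL.node (TL.node (TL.node (TL.node (TL.node (TL.leaf [nat_lit 1]) (TL.leaf [nat_lit 7])) (TL.leaf [nat_lit 2])) (TL.node (TL.leaf [nat_lit 2]) (TL.leaf [nat_lit 9]))) (TL.node (TL.node (TL.node (TL.leaf [nat_lit 3]) (TL.leaf [nat_lit 7])) (TL.leaf [nat_lit 3])) (TL.node (TL.leaf [nat_lit 2]) (TL.leaf [nat_lit 5])))) (TL.node (TL.node (TL.node (TL.node (TL.leaf [nat_lit 1]) (TL.leaf [nat_lit 9])) (TL.leaf [nat_lit 9])) (TL.node (TL.leaf [nat_lit 1]) (TL.leaf [nat_lit 9]))) (TL.node (TL.node (TL.leaf [nat_lit 7]) (TL.leaf [nat_lit 9])) (TL.node (TL.leaf [nat_lit 9]) (TL.leaf [nat_lit 4]))))) (TL.node (TL.node (TL.node (TL.node (TL.node (TL.leaf [nat_lit 1]) (TL.leaf [nat_lit 7])) (TL.leaf [nat_lit 2])) (TL.node (TL.leaf [nat_lit 4]) (TL.leaf [nat_lit 9]))) (TL.node (TL.node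 (TL.leaf [nat_lit 3]) (TL.leaf [nat_lit 5])) (TL.node (TL.leaf [nat_lit 4]) (TL.leaf [nat_lit 7])))) (TL.node (TL.node (TL.node (TL.node (TL.leaf [nat_lit 2]) (TL.leaf [nat_lit 7])) (TL.leaf [nat_lit 3])) (TL.node (TL.leaf [nat_lit 2]) (TL.leaf [nat_lit 4]))) (TL.node (TL.node (TL.leaf [nat_lit 9]) (TL.leaf [nat_lit 7])) (TL.node (TL.leaf [nat_lit 4]) (TL.leaf [nat_lit 9]))))))
noncomputable def U (i : ℕ) : List ℕ := TL.get U_t i
def V1_t : TL := (TL.node (TL.node (TL.node (TL.node (TL.node (TL.node (TL.leaf [nat_lit 3, nat_lit 3]) (TL.leaf [nat_lit 2, nat_lit 3])) (TL.leaf [nat_lit 2, nat_lit 3])) (TL.node (TL.leaf [nat_lit 2, nat_lit 2]) (TL.leaf [nat_lit 3, nat_lit 6]))) (TL.node (TL.node (TL.node (TL.leaf [nat_lit 5, nat_lit 5]) (TL.leaf [nat_lit 8, nat_lit 8])) (TL.leaf [nat_lit 4, nat_lit 4])) (TL.node (TL.leaf [nat_lit 6, nat_lit 6]) (TL.leaf [nat_lit 5, nat_lit 6])))) (TL.node (TL.node (TL.node (TL.node (TL.leaf [nat_lit 6, nat_lit 6]) (TL.leaf [nat_lit 5, nat_lit 6])) (TL.leaf [nat_lit 6, nat_lit 6]))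 (TL.node (TL.leaf [nat_lit 1, nat_lit 4]) (TL.leaf [nat_lit 2, nat_lit 2]))) (TL.node (TL.node (TL.leaf [nat_lit 1, nat_lit 1]) (TL.leaf [nat_lit 5, nat_lit 5])) (TL.node (TL.leaf [nat_lit 1, nat_lit 1]) (TL.leaf [nat_lit 4, nat_lit 5]))))) (TL.node (TL.node (TL.node (TL.node (TL.node (TL.leaf [nat_lit 5, nat_lit 5]) (TL.leaf [nat_lit 5, nat_lit 5])) (TL.leaf [nat_lit 2, nat_lit 4])) (TL.node (TL.leaf [nat_lit 4, nat_lit 4]) (TL.leaf [nat_lit 2, nat_lit 3]))) (TL.node (TL.node (TL.leaf [nat_lit 6, nat_lit 6]) (TL.leaf [nat_lit 6, nat_lit 6])) (TL.node (TL.leaf [nat_lit 5, nat_lit 5]) (TL.leaf [nat_lit 2, nat_lit 2])))) (TL.node (TL.node (TL.node (TL.node (TL.leaf [nat_lit 3, nat_lit 3]) (TL.leaf [nat_lit 3, nat_lit 8])) (TL.leaf [nat_lit 3, nat_lit 4])) (TL.node (TL.leaf [nat_lit 5, nat_lit 5]) (TL.leaf [nat_lit 4, nat_lit 6]))) (TL.node (TL.node (TL.leaf [nat_lit 3, nat_lit 3]) (TL.leaf [nat_lit 3, nat_lit 3])) (TL.node (TL.leaf [nat_lit 6, nat_lit 6]) (TL.leaf [nat_lit 2, nat_lit 5]))))))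
noncomputable def V1 (i : ℕ) : List ℕ := TL.get V1_t i
def V2_t : TL := (TL.node (TL.node (TL.node (TL.node (TL.node (TL.node (TL.leaf []) (TL.leaf [nat_lit 3, nat_lit 2])) (TL.leaf [nat_lit 3, nat_lit 2])) (TL.node (TL.leaf [nat_lit 1]) (TL.leaf [nat_lit 6, nat_lit 3]))) (TL.node (TL.node (TL.node (TL.leaf []) (TL.leaf [nat_lit 1])) (TL.leaf [nat_lit 2])) (TL.node (TL.leaf []) (TL.leaf [nat_lit 6, nat_lit 5, nat_lit 3, nat_lit 1])))) (TL.node (TL.node (TL.node (TL.node (TL.leaf []) (TL.leaf [nat_lit 6, nat_lit 5, nat_lit 3, nat_lit 1])) (TL.leaf [])) (TL.node (TL.leaf [nat_lit 4, nat_lit 1]) (TL.leaf [nat_lit 1]))) (TL.node (TL.node (TL.leaf []) (TL.leaf [])) (TL.node (TL.leaf []) (TL.leaf [nat_lit 5, nat_lit 4, nat_lit 3]))))) (TL.node (TL.node (TL.node (TL.node (TL.node (TL.leaf []) (TL.leaf [])) (TL.leaf [nat_lit 4, nat_lit 2])) (TL.node (TL.leaf [nat_lit 2]) (TL.leaf [nat_lit 3, nat_lit 2]))) (TL.node (TL.node (TL.leaf []) (TL.leaf [])) (TL.node (TL.leaf []) (TL.leaf [nat_lit 1])))) (TL.node (TL.node (TL.node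 (TL.node (TL.leaf []) (TL.leaf [nat_lit 8, nat_lit 3, nat_lit 1])) (TL.leaf [nat_lit 4, nat_lit 3, nat_lit 1])) (TL.node (TL.leaf []) (TL.leaf [nat_lit 6, nat_lit 4, nat_lit 2]))) (TL.node (TL.node (TL.leaf []) (TL.leaf [])) (TL.node (TL.leaf []) (TL.leaf [nat_lit 5, nat_lit 2, nat_lit 1]))))))
noncomputable def V2 (i : ℕ) : List ℕ := TL.get V2_t i
def Y_t : TL := (TL.node (TL.node (TL.node (TL.leaf [nat_lit 1]) (TL.leaf [nat_lit 3])) (TL.leaf [nat_lit 6, nat_lit 4, nat_lit 2, nat_lit 1])) (TL.node (TL.node (TL.leaf [nat_lit 6, nat_lit 4, nat_lit 1]) (TL.leaf [nat_lit 5, nat_lit 2])) (TL.leaf [nat_lit 4])))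
noncomputable def Y (i : ℕ) : List ℕ := TL.get Y_t i
def O_t : TL := (TL.node (TL.node (TL.node (TL.leaf [nat_lit 0]) (TL.leaf [nat_lit 3])) (TL.leaf [nat_lit 5, nat_lit 10])) (TL.node (TL.node (TL.leaf [nat_lit 5]) (TL.leaf [nat_lit 3, nat_lit 12])) (TL.leaf [nat_lit 4])))
noncomputable def O (i : ℕ) : List ℕ := TL.get O_t i
noncomputable def f1 : ℕ → ℕ := rvE Q B (nat_lit 16) Ru
noncomputable def f2 (j : ℕ) : ℕ := rlE I Ru (nat_lit 33) (nat_lit 4) (U j) (V1 j) (V2 j) (D j)
noncomputable def f3 : ℕ → ℕ := tgR I Ru (nat_lit 33) (nat_lit 2) (nat_lit 4) C D (nat_lit 38) La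
noncomputable def f4 : ℕ → ℕ := chE Q B (nat_lit 24) (nat_lit 16) (nat_lit 6) (nat_lit 10) Y O
theorem ra0 : Nat.beq (rng f1 (nat_lit 0) (nat_lit 33)) (nat_lit 0) = true := by decide +kernel
theorem rb0 : Nat.beq (rng f2 (nat_lit 0) (nat_lit 37)) (nat_lit 0) = true := by decide +kernel
theorem rc0 : Nat.beq (rng f3 (nat_lit 0) (nat_lit 6)) (nat_lit 0) = true := by decide +kernel
theorem rd0 : Nat.beq (rng f4 (nat_lit 0) (nat_lit 6)) (nat_lit 0) = true := by decide +kernel
theorem h1 : ∀ i < 33, f1 i = 0 := by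
  have h := zero_lt_zero f1
  have h := zero_lt_add (a := (nat_lit 0)) (n := (nat_lit 33)) (b := (nat_lit 33)) h ra0 rfl
  exact h
theorem h2 : ∀ i < 37, f2 i = 0 := by
  have h := zero_lt_zero f2
  have h := zero_lt_add (a := (nat_lit 0)) (n := (nat_lit 37)) (b := (nat_lit 37)) h rb0 rfl
  exact h
theorem h3 : ∀ i < 6, f3 i = 0 := by
  have h := zero_lt_zero f3
  have h := zero_lt_add (a := (nat_lit 0)) (n := (nat_lit 6)) (b := (nat_lit 6)) h rc0 rfl
  exact h
theorem h4 : ∀ i < 6, f4 i = 0 := by
  have h := zero_lt_zero f4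
  have h := zero_lt_add (a := (nat_lit 0)) (n := (nat_lit 6)) (b := (nat_lit 6)) h rd0 rfl
  exact h
theorem nok : NoK (G12) (2 ^ (1 + 1)) := fun _ _ _ _ h =>
  (md.rv (I := I) (K := 33) rfl ⟨rfl, by decide⟩ (upTo_beq (by decide +kernel)) h1).core h (by norm_num)
    (md.syl (by norm_num) rfl (by decide) h4) (by rw [card12]; decide) (n := 4) (s := 1) (e := e) (L := Le) (C := C)
    ⟨rfl, by decide, rfl, by decide, by decide, rfl, by decide⟩ h2 (upTo_beq (by decide +kernel)) (upTo_beq (by decide +kernel)) h3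

end Cfsg.Agent.Ct.M12s.S2
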